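import Mathlib
import Groth.Prelude.Def_W4c2conddiscmodels
import Groth.Agent.LGChain.Basic

/-!
# A weighted matrix-tree theorem
-/

set_option autoImplicit false
universe u

open Finset LabGraph Matrix

namespace Groth.Agent.MTree

variable {V E : Type u} [Fintype V] [Fintype E] [DecidableEq V] [DecidableEq E] (ends : E → V × V)

/-- Signed incidence vector of an edge. -/
def chi (R : Type*) [CommRing R] (t : E) : V → R := Pi.single (ends t).1 1 - Pi.single (ends t).2 1

theorem chi_cast {R : Type*} [CommRing R] (t : E) (v : V) : ((chi ends ℤ t v : ℤ) : R) = chi ends R t v := by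
  simp only [chi, Pi.sub_apply, Pi.single_apply]
  split_ifs <;> simp

theorem sum_chi {R : Type*} [CommRing R] (t : E) : ∑ v, chi ends R t v = 0 := by simp [chi]

/-- Rows: the incidence vectors of the edges and one extra vector. -/
def rows {R : Type*} [CommRing R] (f : V → R) : Option E → V → R
  | none => f
  | some t => chi ends R t

/-- The matrix attached to an edge set `T` and a vertex `r`. -/
def treeMat (R : Type*) [CommRing R] (r : V) (T : Finset E) : Matrix (Option T) V R :=
  Matrix.of fun x => rows ends (Pi.single r 1) (x.map Subtype.val)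

theorem treeMat_map {R : Type*} [CommRing R] (r : V) (T : Finset E) :
    (treeMat ends ℤ r T).map (Int.castRingHom R) = treeMat ends R r T := by
  ext x v
  rcases x with _ | t
  · simp [treeMat, rows, Pi.single_apply, apply_ite (Int.cast : ℤ → R)]
  · simp [treeMat, rows, chi_cast]

theorem vecMul_tree {R : Type*} [CommRing R] (r : V) (T : Finset E) (c : Option T → R) (v : V) :
    (c ᵥ* treeMat ends R r T) v = (if r = v then c none else 0) + ∑ t : T, c (some t) * chi ends R t.1 v := by
  rw [Matrix.vecMul, dotProduct, Fintype.sum_option]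
  congr 1
  simp [treeMat, rows, Pi.single_apply, eq_comm]

theorem surjective_of_connected {R : Type*} [CommRing R] (r : V) {T : Finset E}
    (hconn : Connected (fun e : T => ends e.1)) : Function.Surjective fun c => c ᵥ* treeMat ends R r T := by
  let L := (treeMat ends R r T).vecMulLinear
  suffices h : ∀ v : V, (Pi.single v 1 : V → R) ∈ LinearMap.range L by
    intro g
    have hg : g ∈ LinearMap.range L := by
      rw [pi_eq_sum_univ' g]
      exact sum_mem fun v _ => Submodule.smul_mem _ _ (h v)
    exact hg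
  intro v
  have hrow : ∀ x, treeMat ends R r T x ∈ LinearMap.range L := fun x =>
    ⟨Pi.single x 1, by simp only [L, Matrix.vecMulLinear_apply, Matrix.single_one_vecMul]; rfl⟩
  induction hconn.2 r v with
  | refl => exact hrow none
  | @tail b c _ hadj ih =>
    obtain ⟨t, ht⟩ := hadj
    have h : chi ends R t.1 ∈ LinearMap.range L := hrow (some t)
    rw [chi] at h
    dsimp only at ht
    rcases ht with ht | ht <;> rw [ht] at h
    · simpa using sub_mem ih h
    · simpa using add_mem h ih

/-- The coefficient of a spanning tree in the determinant. -/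
noncomputable def tau (r : V) (T : Finset E) (e : V ≃ Option T) : ℤ :=
  ((treeMat ends ℤ r T).submatrix e id).det

theorem submatrix_vecMul {R : Type*} [CommRing R] {n p : Type*} [Fintype n] [Fintype p]
    (M : Matrix p n R) (e : n ≃ p) (c : p → R) : (c ∘ e) ᵥ* M.submatrix e id = c ᵥ* M := by
  funext v
  simp only [Matrix.vecMul, dotProduct, Matrix.submatrix_apply, Function.comp_apply, id_eq]
  exact e.sum_comp (fun x => c x * M x v)

theorem isUnit_tau (r : V) {T : Finset E} (e : V ≃ Option T) (hconn : Connected (fun e : T => ends e.1)) :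
    IsUnit (tau ends r T e) := by
  rw [tau, ← Matrix.isUnit_iff_isUnit_det, ← Matrix.vecMul_surjective_iff_isUnit]
  intro g
  obtain ⟨c, hc⟩ := surjective_of_connected ends (R := ℤ) r hconn g
  exact ⟨c ∘ e, (submatrix_vecMul _ e c).trans hc⟩

theorem tau_eq_zero (r : V) {T : Finset E} (e : V ≃ Option T) (hconn : ¬ Connected (fun e : T => ends e.1)) :
    tau ends r T e = 0 := by
  classical
  set Adj' := LabGraph.Adj (fun e : T => ends e.1)
  obtain ⟨v0, hv0⟩ : ∃ v0, ¬ Relation.ReflTransGen Adj' r v0 := by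
    by_contra h
    simp only [not_exists, not_not] at h
    exact hconn ⟨⟨r⟩, fun v w => by
      refine Relation.ReflTransGen.trans ?_ (h w)
      haveI : Std.Symm Adj' := ⟨fun a b ⟨t, ht⟩ => ⟨t, ht.symm⟩⟩
      exact Std.Symm.symm (r := Relation.ReflTransGen Adj') r v (h v)⟩
  let h : V → ℤ := fun v => if Relation.ReflTransGen Adj' r v then 0 else 1
  rw [tau, ← Matrix.exists_mulVec_eq_zero_iff]
  refine ⟨h, fun h0 => by simpa [h, hv0] using congrFun h0 v0, funext fun i => ?_⟩
  show (treeMat ends ℤ r T (e i)) ⬝ᵥ h = 0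
  rcases e i with _ | t
  · show (Pi.single r 1 : V → ℤ) ⬝ᵥ h = 0
    rw [single_dotProduct, one_mul]
    exact if_pos Relation.ReflTransGen.refl
  · show chi ends ℤ t.1 ⬝ᵥ h = 0
    have hiff : Relation.ReflTransGen Adj' r (ends t.1).1 ↔ Relation.ReflTransGen Adj' r (ends t.1).2 :=
      ⟨fun hh => hh.tail ⟨t, Or.inl rfl⟩, fun hh => hh.tail ⟨t, Or.inr rfl⟩⟩
    rw [chi, sub_dotProduct, single_dotProduct, single_dotProduct, one_mul, one_mul, sub_eq_zero]
    simp only [h, hiff]

omit [Fintype E] [DecidableEq E] [Fintype V] in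
theorem endCount_mod_two {ι : Type u} (g : ι → V × V) (C : Finset ι) (v : V) :
    (endCount g C v : ZMod 2) = ∑ t ∈ C, ((Pi.single (g t).1 1 : V → ZMod 2) v - (Pi.single (g t).2 1 : V → ZMod 2) v) := by
  rw [endCount, Nat.cast_sum]
  refine Finset.sum_congr rfl fun t _ => ?_
  simp only [CharTwo.sub_eq_add, Nat.cast_add, apply_ite (Nat.cast : ℕ → ZMod 2), Nat.cast_one,
    Nat.cast_zero, Pi.single_apply, eq_comm]

omit [Fintype V] [Fintype E] [DecidableEq E] in
theorem exists_circuit_subset {ι : Type u} (g : ι → V × V) : ∀ C : Finset ι, C.Nonempty →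
    (∀ v, Even (endCount g C v)) → ∃ C' : Finset ι, C' ⊆ C ∧ IsCircuit g C' := by
  intro C
  induction C using Finset.strongInduction with
  | _ C ih =>
    intro hne hev
    by_cases h : IsCircuit g C
    · exact ⟨C, subset_rfl, h⟩
    · simp only [IsCircuit, not_and, not_forall, not_exists, not_not] at h
      obtain ⟨C', hsub, hne', hev'⟩ := h hne hev
      obtain ⟨D, hD, hD'⟩ := ih C' hsub hne' hev'
      exact ⟨D, hD.trans hsub.1, hD'⟩

theorem card_eq_of_tree (r : V) {T : Finset E} (hT : IsSpanningTree ends T) :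
    Fintype.card V = Fintype.card (Option T) := by
  classical
  haveI : Fact (Nat.Prime 2) := ⟨Nat.prime_two⟩
  refine le_antisymm ?_ ?_
  · have h := LinearMap.finrank_le_finrank_of_surjective (f := (treeMat ends (ZMod 2) r T).vecMulLinear)
      (surjective_of_connected ends (R := ZMod 2) r hT.1)
    rwa [Module.finrank_pi, Module.finrank_pi] at h
  · have hinj : Function.Injective (treeMat ends (ZMod 2) r T).vecMulLinear := by
      rw [← LinearMap.ker_eq_bot, LinearMap.ker_eq_bot']
      intro c hc
      have hv : ∀ v, (if r = v then c none else 0) + ∑ t : T, c (some t) * chi ends (ZMod 2) t.1 v = 0 := fun v => by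
        rw [← vecMul_tree]; exact congrFun hc v
      have hnone : c none = 0 := by
        have h := Finset.sum_eq_zero (s := univ) (fun v _ => hv v)
        rw [Finset.sum_add_distrib, Finset.sum_ite_eq, if_pos (Finset.mem_univ r), Finset.sum_comm] at h
        simpa [← Finset.mul_sum, sum_chi] using h
      set C : Finset T := univ.filter fun t => c (some t) ≠ 0 with hC
      have heven : ∀ v, Even (endCount (fun e : T => ends e.1) C v) := fun v => by
        rw [← ZMod.natCast_eq_zero_iff_even, endCount_mod_two]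
        have h := hv v
        rw [hnone, ite_self, zero_add] at h
        rw [hC, Finset.sum_filter]
        refine Eq.trans (Finset.sum_congr rfl fun t _ => ?_) h
        have h01 : ∀ a : ZMod 2, a = 0 ∨ a = 1 := fun a => match a with | 0 => Or.inl rfl | 1 => Or.inr rfl
        rcases h01 (c (some t)) with h2 | h2 <;> simp [h2, chi]
      have hCempty : ¬ C.Nonempty := by
        intro hne
        obtain ⟨C', -, hC'⟩ := exists_circuit_subset (fun e : T => ends e.1) C hne heven
        exact hT.2 C' hC'
      funext x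
      rcases x with _ | t
      · exact hnone
      · by_contra hne
        exact hCempty ⟨t, Finset.mem_filter.mpr ⟨Finset.mem_univ _, hne⟩⟩
    have h := LinearMap.finrank_le_finrank_of_injective hinj
    rwa [Module.finrank_pi, Module.finrank_pi] at h

theorem tree_of_card (r : V) {T : Finset E} (e : V ≃ Option T) (hconn : Connected (fun e : T => ends e.1)) :
    IsSpanningTree ends T := by
  classical
  refine ⟨hconn, fun C hC => ?_⟩
  haveI : Fact (Nat.Prime 2) := ⟨Nat.prime_two⟩
  have hu := (isUnit_tau ends r e hconn).map (Int.castRingHom (ZMod 2))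
  rw [tau, RingHom.map_det, RingHom.mapMatrix_apply, ← Matrix.submatrix_map, treeMat_map,
    ← Matrix.isUnit_iff_isUnit_det] at hu
  let κ : Option T → ZMod 2 := fun x => x.elim 0 fun t => if t ∈ C then 1 else 0
  have hz : κ ᵥ* treeMat ends (ZMod 2) r T = 0 := by
    funext v
    rw [vecMul_tree]
    simp only [κ, Option.elim, ite_self, zero_add, ite_mul, one_mul, zero_mul, Finset.sum_ite_mem, Finset.univ_inter]
    show _ = (0 : ZMod 2)
    rw [← ZMod.natCast_eq_zero_iff_even.mpr (hC.2.1 v), endCount_mod_two]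
    exact Finset.sum_congr rfl fun t _ => rfl
  have : κ ∘ e = 0 := (Matrix.vecMul_injective_iff_isUnit.mpr hu) (by
    show (κ ∘ e) ᵥ* _ = 0 ᵥ* _
    rw [submatrix_vecMul, hz, Matrix.zero_vecMul])
  obtain ⟨t, ht⟩ := hC.1
  have h := congrFun this (e.symm (some t))
  simp [κ, ht] at h

section CB

variable (f : V → ℚ) (w : E → ℚ)

/-- The weights, with weight one for the extra row. -/
def wt : Option E → ℚ
  | none => 1
  | some t => w t

/-- The weighted Laplacian with a rank-one correction. -/
noncomputable def lap : Matrix V V ℚ :=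
  (Matrix.of (rows ends f))ᵀ * Matrix.diagonal (wt w) * Matrix.of (rows ends f)

theorem det_mul_expand {n m R : Type*} [Fintype n] [DecidableEq n] [Fintype m] [DecidableEq m] [CommRing R]
    (A : Matrix n m R) (B : Matrix m n R) :
    (A * B).det = ∑ σ : n → m, (∏ i, A i (σ i)) * (B.submatrix σ id).det := by
  have h : ((A * B : Matrix n n R) : n → n → R) = fun i => ∑ x : m, A i x • B x := by
    funext i j
    simp [Matrix.mul_apply]
  show Matrix.detRowAlternating (A * B : Matrix n n R) = _
  rw [h]
  rw [show (Matrix.detRowAlternating (R := R) (n := n)) (fun i => ∑ x : m, A i x • B x) =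
    (Matrix.detRowAlternating (R := R) (n := n)).toMultilinearMap (fun i => ∑ x : m, A i x • B x) from rfl,
    MultilinearMap.map_sum]
  refine Finset.sum_congr rfl fun σ _ => ?_
  rw [MultilinearMap.map_smul_univ, smul_eq_mul]
  rfl

theorem row_sum_change (r : V) {T : Finset E} (e : V ≃ Option T) :
    ((Matrix.of (rows ends f)).submatrix (fun v => (e v).map Subtype.val) id).det =
      (∑ v, f v) * (tau ends r T e : ℚ) := by
  set B := (Matrix.of (rows ends f)).submatrix (fun v => (e v).map Subtype.val) id with hB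
  set B' := (treeMat ends ℚ r T).submatrix e id with hB'
  have hcast : (tau ends r T e : ℚ) = B'.det := by
    rw [hB', ← treeMat_map, Matrix.submatrix_map]
    exact RingHom.map_det (Int.castRingHom ℚ) _
  set i0 := e.symm none with hi0
  have hupd : B' = B.updateRow i0 (Pi.single r 1) := by
    ext i v
    by_cases hi : i = i0
    · subst hi; simp [hB', hi0, treeMat, rows]
    · rw [Matrix.updateRow_ne hi]
      rcases hei : e i with _ | t
      · exact absurd (by rw [hi0, ← hei, Equiv.symm_apply_apply]) hi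
      · simp [hB', hB, treeMat, rows, hei]
  have h1 : B *ᵥ (fun _ => (1 : ℚ)) = (∑ v, f v) • (Pi.single i0 1 : V → ℚ) := by
    funext i
    rcases hei : e i with _ | t
    · have : i = i0 := by rw [hi0, ← hei, Equiv.symm_apply_apply]
      subst this
      simp [hB, Matrix.mulVec, dotProduct, hei, rows]
    · have : i ≠ i0 := fun h => by rw [h, hi0, Equiv.apply_symm_apply] at hei; exact absurd hei (by simp)
      simp [hB, Matrix.mulVec, dotProduct, hei, rows, sum_chi, this]
  have h2 : B' *ᵥ (fun _ => (1 : ℚ)) = (Pi.single i0 1 : V → ℚ) := by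
    funext i
    rcases hei : e i with _ | t
    · have : i = i0 := by rw [hi0, ← hei, Equiv.symm_apply_apply]
      subst this
      simp [hB', Matrix.mulVec, dotProduct, hei, treeMat, rows]
    · have : i ≠ i0 := fun h => by rw [h, hi0, Equiv.apply_symm_apply] at hei; exact absurd hei (by simp)
      simp [hB', Matrix.mulVec, dotProduct, hei, treeMat, rows, sum_chi, this]
  have h1' := congrArg (fun x => B.adjugate *ᵥ x) h1
  have h2' := congrArg (fun x => B'.adjugate *ᵥ x) h2
  simp only [Matrix.mulVec_mulVec, Matrix.adjugate_mul, Matrix.smul_mulVec, Matrix.one_mulVec,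
    Matrix.mulVec_smul, Matrix.mulVec_single_one] at h1' h2'
  have e1 := congrFun h1' r
  have e2 := congrFun h2' r
  simp only [Pi.smul_apply, Matrix.col_apply, smul_eq_mul, mul_one] at e1 e2
  rw [hcast, e1, e2, Matrix.adjugate_apply, Matrix.adjugate_apply, hupd, Matrix.updateRow_idem]

/-- The expansion of the determinant over spanning trees. -/
theorem det_lap [DecidablePred fun T : Finset E => IsSpanningTree ends T] [Nonempty V] :
    (lap ends f w).det = (∑ v, f v) ^ 2 *
      ∑ T ∈ univ.powerset.filter (fun T : Finset E => IsSpanningTree ends T), ∏ t ∈ T, w t := by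
  classical
  obtain ⟨r⟩ := ‹Nonempty V›
  let B : Matrix (Option E) V ℚ := Matrix.of (rows ends f)
  let F : (V → Option E) → ℚ := fun σ => (∏ i, ((Bᵀ * Matrix.diagonal (wt w)) i (σ i))) * (B.submatrix σ id).det
  let I := univ.filter fun T : Finset E => Fintype.card V = Fintype.card (Option T)
  have hcard : ∀ p : Σ _ : Finset E, Equiv.Perm V, p ∈ I.sigma (fun _ => univ) →
      Fintype.card V = Fintype.card (Option p.1) := fun p hp => (Finset.mem_filter.mp (Finset.mem_sigma.mp hp).1).2
  let eq0 : ∀ T : Finset E, Fintype.card V = Fintype.card (Option T) → V ≃ Option T := fun T h => Fintype.equivOfCardEq h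
  let val : ∀ T : Finset E, Option T → Option E := fun T x => x.map Subtype.val
  let σ0 : ∀ T : Finset E, V → Option E := fun T =>
    if h : Fintype.card V = Fintype.card (Option T) then val T ∘ eq0 T h else fun _ => none
  have hexp : (lap ends f w).det = ∑ σ : V → Option E, F σ := det_mul_expand _ _
  have hval : ∀ T, Function.Injective (val T) := fun T => Option.map_injective Subtype.val_injective
  have himg : ∀ T ∈ I, ∀ t, t ∈ T ↔ ∃ v, σ0 T v = some t := by
    intro T hT t
    simp only [σ0, dif_pos (Finset.mem_filter.mp hT).2, Function.comp_apply, val]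
    constructor
    · intro h; exact ⟨(eq0 T (Finset.mem_filter.mp hT).2).symm (some ⟨t, h⟩), by simp⟩
    · rintro ⟨v, hv⟩
      obtain ⟨a, -, rfl⟩ := Option.map_eq_some_iff.mp hv
      exact a.2
  have hσinj : ∀ T ∈ I, Function.Injective (σ0 T) := fun T hT => by
    simp only [σ0, dif_pos (Finset.mem_filter.mp hT).2]
    exact (hval T).comp (eq0 _ _).injective
  have hgood : ∀ σ : V → Option E, F σ ≠ 0 → Function.Injective σ ∧ ∃ v, σ v = none := by
    intro σ hσ
    constructor
    · intro a b hab
      by_contra hne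
      exact hσ (by simp only [F]; rw [Matrix.det_zero_of_row_eq hne (funext fun j => by simp [hab]), mul_zero])
    · by_contra hn
      refine hσ (mul_eq_zero_of_right _ ?_)
      rw [← Matrix.exists_mulVec_eq_zero_iff]
      refine ⟨fun _ => 1, fun h => one_ne_zero (congrFun h r), funext fun i => ?_⟩
      rcases hi : σ i with _ | t
      · exact absurd ⟨i, hi⟩ hn
      · simp [Matrix.mulVec, dotProduct, B, hi, rows, sum_chi]
  have hsum : ∑ σ : V → Option E, F σ =
      ∑ p ∈ I.sigma (fun _ => (univ : Finset (Equiv.Perm V))), F (σ0 p.1 ∘ p.2) := by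
    symm
    refine Finset.sum_bij_ne_zero (fun p _ _ => σ0 p.1 ∘ p.2) (fun _ _ _ => Finset.mem_univ _) ?_ ?_ (fun _ _ _ => rfl)
    · rintro ⟨T, p⟩ hp - ⟨T', p'⟩ hp' - h
      have hT := (Finset.mem_sigma.mp hp).1
      have hT' := (Finset.mem_sigma.mp hp').1
      obtain rfl : T = T' := by
        ext t
        rw [himg T hT, himg T' hT']
        constructor
        · rintro ⟨v, hv⟩
          exact ⟨p' (p.symm v), by rw [show σ0 T' (p' (p.symm v)) = σ0 T (p (p.symm v)) from (congrFun h _).symm,
            Equiv.apply_symm_apply, hv]⟩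
        · rintro ⟨v, hv⟩
          exact ⟨p (p'.symm v), by rw [show σ0 T (p (p'.symm v)) = σ0 T' (p' (p'.symm v)) from congrFun h _,
            Equiv.apply_symm_apply, hv]⟩
      congr 1
      exact Equiv.ext fun v => hσinj T hT (congrFun h v)
    · intro σ _ hσ
      obtain ⟨hinj, v0, hv0⟩ := hgood σ hσ
      let T : Finset E := univ.filter fun t => ∃ v, σ v = some t
      let τ : V → Option T := fun v => match h : σ v with
        | none => none
        | some t => some ⟨t, Finset.mem_filter.mpr ⟨Finset.mem_univ _, v, h⟩⟩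
      have hτ : ∀ v, val T (τ v) = σ v := by
        intro v; simp only [τ]; split <;> simp_all [val]
      have hτb : Function.Bijective τ := by
        refine ⟨fun a b h => hinj (by rw [← hτ, ← hτ, h]), fun x => ?_⟩
        rcases x with _ | ⟨t, ht⟩
        · exact ⟨v0, hval T ((hτ v0).trans hv0)⟩
        · obtain ⟨v, hv⟩ := (Finset.mem_filter.mp ht).2
          exact ⟨v, hval T ((hτ v).trans hv)⟩
      have hTI : T ∈ I := Finset.mem_filter.mpr ⟨Finset.mem_univ _, Fintype.card_of_bijective hτb⟩
      have hfun : σ0 T ∘ ⇑((Equiv.ofBijective τ hτb).trans (eq0 T (Finset.mem_filter.mp hTI).2).symm) = σ := by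
        funext v
        simp only [σ0, dif_pos (Finset.mem_filter.mp hTI).2, Function.comp_apply, Equiv.trans_apply,
          Equiv.apply_symm_apply, Equiv.ofBijective_apply, hτ]
      refine ⟨⟨T, (Equiv.ofBijective τ hτb).trans (eq0 T (Finset.mem_filter.mp hTI).2).symm⟩,
        Finset.mem_sigma.mpr ⟨hTI, Finset.mem_univ _⟩, by rw [hfun]; exact hσ, hfun⟩
  rw [hexp, hsum, Finset.sum_sigma, Finset.mul_sum]
  have hT : ∀ T ∈ I, ∑ p : Equiv.Perm V, F (σ0 T ∘ p) =
      if IsSpanningTree ends T then (∑ v, f v) ^ 2 * ∏ t ∈ T, w t else 0 := by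
    intro T hT
    have h := (Finset.mem_filter.mp hT).2
    set e := eq0 T h
    have hs : σ0 T = val T ∘ e := by simp only [σ0, dif_pos h, e]
    rw [hs]
    set d := (B.submatrix (val T ∘ e) id).det with hd
    have hdet : ∀ p : Equiv.Perm V, (B.submatrix ((val T ∘ e) ∘ p) id).det = (Equiv.Perm.sign p : ℚ) * d := fun p =>
      (Matrix.det_permute p (B.submatrix (val T ∘ e) id))
    have hA : ∑ p : Equiv.Perm V, (Equiv.Perm.sign p : ℚ) * ∏ i, (Bᵀ * Matrix.diagonal (wt w)) i ((val T ∘ e) (p i)) =
        d * ∏ t ∈ T, w t := by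
      have hm : (Bᵀ * Matrix.diagonal (wt w)).submatrix id (val T ∘ e) =
          (B.submatrix (val T ∘ e) id)ᵀ * Matrix.diagonal (wt w ∘ (val T ∘ e)) := by
        ext i j; simp [Matrix.mul_diagonal]
      have hw : ∏ v, wt w (val T (e v)) = ∏ t ∈ T, w t := by
        rw [e.prod_comp (fun x => wt w (val T x)), Fintype.prod_option]
        simp only [val, wt, Option.map_none, Option.map_some, one_mul]
        exact Finset.prod_coe_sort T w
      have := congrArg Matrix.det hm
      rw [Matrix.det_mul, Matrix.det_transpose, Matrix.det_diagonal, ← Matrix.det_transpose, Matrix.det_apply'] at this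
      simpa [hw, hd] using this
    have hgo : ∑ p : Equiv.Perm V, F ((val T ∘ e) ∘ p) = d * (∏ t ∈ T, w t) * d := by
      rw [← hA, Finset.sum_mul]
      refine Finset.sum_congr rfl fun p _ => ?_
      simp only [F, hdet, Function.comp_apply]
      ring
    rw [hgo, show d = (∑ v, f v) * (tau ends r T e : ℚ) from row_sum_change ends f r e]
    by_cases hc : Connected (fun e : T => ends e.1)
    · rw [if_pos (tree_of_card ends r e hc)]
      rcases Int.isUnit_iff.mp (isUnit_tau ends r e hc) with h1 | h1 <;> rw [h1] <;> push_cast <;> ring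
    · rw [if_neg (fun h => hc h.1), tau_eq_zero ends r e hc]
      simp
  rw [Finset.sum_congr rfl hT, ← Finset.sum_filter]
  refine Finset.sum_congr (Finset.ext fun T => ?_) fun _ _ => rfl
  simp only [I, Finset.mem_filter, Finset.mem_univ, true_and, Finset.mem_powerset, Finset.subset_univ]
  exact ⟨fun h => h.2, fun h => ⟨card_eq_of_tree ends r h, h⟩⟩

theorem det_lap_ne_zero (hw : ∀ t, 0 < w t) (hf : ∑ v, f v ≠ 0) (hG : Connected ends) : (lap ends f w).det ≠ 0 := by
  intro h0
  obtain ⟨y, hy, hy0⟩ := Matrix.exists_mulVec_eq_zero_iff.mpr h0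
  set B : Matrix (Option E) V ℚ := Matrix.of (rows ends f)
  have hq : ∑ x, wt w x * (B *ᵥ y) x ^ 2 = 0 := by
    have h : y ⬝ᵥ ((lap ends f w) *ᵥ y) = 0 := by rw [hy0, dotProduct_zero]
    rw [lap, ← Matrix.mulVec_mulVec, ← Matrix.mulVec_mulVec, Matrix.dotProduct_mulVec, Matrix.vecMul_transpose] at h
    rw [← h]
    exact Finset.sum_congr rfl fun x _ => by rw [Matrix.mulVec_diagonal]; ring
  have hpos : ∀ x, 0 < wt w x := fun x => by rcases x with _ | t <;> simp [wt, hw]
  have hx : ∀ x, (B *ᵥ y) x = 0 := fun x => by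
    have := (Finset.sum_eq_zero_iff_of_nonneg fun x _ => mul_nonneg (hpos x).le (sq_nonneg _)).mp hq x (Finset.mem_univ x)
    rcases mul_eq_zero.mp this with h | h
    · exact absurd h (hpos x).ne'
    · exact pow_eq_zero_iff two_ne_zero |>.mp h
  have hedge : ∀ t : E, y (ends t).1 = y (ends t).2 := fun t => by
    have := hx (some t)
    simpa [Matrix.mulVec, dotProduct, B, rows, chi, sub_mul, Pi.single_apply, Finset.sum_sub_distrib, sub_eq_zero] using this
  obtain ⟨r⟩ := hG.1
  have hconst : ∀ v, y v = y r := fun v => by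
    induction hG.2 r v with
    | refl => rfl
    | tail _ hadj ih =>
      obtain ⟨t, ht | ht⟩ := hadj
      · rw [← ih]; have := hedge t; rw [ht] at this; exact this.symm
      · rw [← ih]; have := hedge t; rw [ht] at this; exact this
  have hnone := hx none
  simp only [Matrix.mulVec, dotProduct, B, Matrix.of_apply, rows, hconst, ← Finset.sum_mul] at hnone
  exact hy (funext fun v => by rw [hconst v]; exact (mul_eq_zero.mp hnone).resolve_left hf)

end CB

theorem nbrCount_eq [Nonempty V] {T : Finset E} (hT : IsSpanningTree ends T) (v : V) :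
    nbrCount ends T v = endCount ends T v := by
  classical
  obtain ⟨r⟩ := ‹Nonempty V›
  haveI : Fact (Nat.Prime 2) := ⟨Nat.prime_two⟩
  let e : V ≃ Option T := Fintype.equivOfCardEq (card_eq_of_tree ends r hT)
  have hu := (isUnit_tau ends r e hT.1).map (Int.castRingHom (ZMod 2))
  rw [tau, RingHom.map_det, RingHom.mapMatrix_apply, ← Matrix.submatrix_map, treeMat_map,
    ← Matrix.isUnit_iff_isUnit_det, ← Matrix.vecMul_injective_iff_isUnit] at hu
  have hinj : Function.Injective fun c : Option T → ZMod 2 => c ᵥ* treeMat ends (ZMod 2) r T := fun a b h => by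
    have : a ∘ e = b ∘ e := hu (by
      show (a ∘ e) ᵥ* _ = (b ∘ e) ᵥ* _
      rw [submatrix_vecMul, submatrix_vecMul]; exact h)
    funext x
    simpa using congrFun this (e.symm x)
  have hrow : ∀ t : T, Pi.single (some t) (1 : ZMod 2) ᵥ* treeMat ends (ZMod 2) r T = chi ends (ZMod 2) t.1 := fun t => by
    rw [Matrix.single_one_vecMul]; rfl
  have hnl : ∀ t ∈ T, (ends t).1 ≠ (ends t).2 := fun t ht h => by
    have := hinj (a₁ := Pi.single (some ⟨t, ht⟩) 1) (a₂ := 0) (by
      simp only [hrow, Matrix.zero_vecMul, chi, h, sub_self])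
    simpa using congrFun this (some ⟨t, ht⟩)
  have hnp : ∀ t ∈ T, ∀ t' ∈ T, (ends t' = ends t ∨ ends t' = (ends t).swap) → t' = t := by
    intro t ht t' ht' h
    have := hinj (a₁ := Pi.single (some ⟨t', ht'⟩) 1) (a₂ := Pi.single (some ⟨t, ht⟩) 1) (by
      simp only [hrow]
      rcases h with h | h
      · simp only [chi, h]
      · funext x; simp [chi, h, CharTwo.sub_eq_add, add_comm])
    have := congrFun this (some ⟨t', ht'⟩)
    by_contra hne
    simp [Pi.single_apply, hne] at this
  have hend : endCount ends T v = (T.filter fun t => (ends t).1 = v ∨ (ends t).2 = v).card := by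
    rw [endCount, Finset.card_filter]
    refine Finset.sum_congr rfl fun t ht => ?_
    by_cases h1 : (ends t).1 = v <;> by_cases h2 : (ends t).2 = v <;> simp [h1, h2]
    exact hnl t ht (h1.trans h2.symm)
  rw [hend, nbrCount]
  symm
  refine Finset.card_bij (fun t _ => if (ends t).1 = v then (ends t).2 else (ends t).1) ?_ ?_ ?_
  · intro t ht
    obtain ⟨htT, hv⟩ := Finset.mem_filter.mp ht
    rw [Finset.mem_filter]
    refine ⟨Finset.mem_univ _, ?_, t, htT, ?_⟩
    · split_ifs with h
      · exact fun h' => hnl t htT (h.trans h'.symm)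
      · exact h
    · split_ifs with h
      · exact Or.inl (Prod.ext h rfl)
      · exact Or.inr (Prod.ext rfl (hv.resolve_left h))
  · intro t ht t' ht' h
    obtain ⟨htT, hv⟩ := Finset.mem_filter.mp ht
    obtain ⟨htT', hv'⟩ := Finset.mem_filter.mp ht'
    refine (hnp t htT t' htT' ?_).symm
    split_ifs at h with h1 h2 h2
    · exact Or.inl (Prod.ext (h2.trans h1.symm) h.symm)
    · exact Or.inr (Prod.ext h.symm ((hv'.resolve_left h2).trans h1.symm))
    · exact Or.inr (Prod.ext (h2.trans (hv.resolve_left h1).symm) h.symm)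
    · exact Or.inl (Prod.ext h.symm ((hv'.resolve_left h2).trans (hv.resolve_left h1).symm))
  · intro u hu'
    obtain ⟨-, hne, t, htT, h⟩ := Finset.mem_filter.mp hu'
    refine ⟨t, Finset.mem_filter.mpr ⟨htT, ?_⟩, ?_⟩ <;> rcases h with h | h <;> simp [h, hne]

theorem prod_weight (β : V → ℚ) (T : Finset E) :
    ∏ t ∈ T, β (ends t).1 * β (ends t).2 = ∏ v, β v ^ endCount ends T v := by
  simp only [endCount, ← Finset.prod_pow_eq_pow_sum]
  rw [Finset.prod_comm]
  refine Finset.prod_congr rfl fun t _ => ?_
  simp only [pow_add, Finset.prod_mul_distrib]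
  congr 1 <;> simp [pow_ite]

theorem lap_apply (f : V → ℚ) (w : E → ℚ) (v v' : V) :
    lap ends f w v v' = f v * f v' + ∑ t, w t * (chi ends ℚ t v * chi ends ℚ t v') := by
  rw [lap, Matrix.mul_apply, Fintype.sum_option]
  simp only [Matrix.mul_diagonal, Matrix.transpose_apply, Matrix.of_apply, rows, wt, mul_one]
  congr 1
  exact Finset.sum_congr rfl fun t _ => by ring

theorem card_compGrp [DecidablePred fun T : Finset E => IsSpanningTree ends T] (β : V → ℤ) (hβ : IsMultFn ends β)
    (hG : Connected ends) :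
    (Nat.card (CompGrp ends β) : ℚ) = ((univ.gcd β : ℤ) : ℚ) ^ 2 *
      ∑ T ∈ univ.powerset.filter (fun T : Finset E => IsSpanningTree ends T),
        ∏ v : V, ((β v : ℚ) ^ ((nbrCount ends T v : ℤ) - 2)) := by
  classical
  haveI : Nonempty V := hG.1
  obtain ⟨e, he⟩ := Finset.gcd_eq_sum_mul univ β
  set g := univ.gcd β with hgdef
  have hg : 0 < g := by
    obtain ⟨v⟩ := hG.1
    refine lt_of_le_of_ne (Int.nonneg_of_normalize_eq_self Finset.normalize_gcd) fun h => ?_
    exact (hβ v).1.ne' ((Finset.gcd_eq_zero_iff.mp h.symm) v (Finset.mem_univ v))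
  have hdvd : ∀ v, g ∣ β v := fun v => Finset.gcd_dvd (Finset.mem_univ v)
  choose rr hrr using hdvd
  set α := mfMatrix ends β
  set M : Matrix V V ℤ := -α + Matrix.vecMulVec e e with hM
  have hsymm : ∀ v v', v ≠ v' → α v v' = (edgeMult ends v v' : ℤ) := fun v v' h => if_neg h
  have hab : α *ᵥ β = 0 := by
    funext v
    rw [LGChain.mulVec_row, LGChain.diag_mul hβ, Pi.zero_apply]
    simp [mul_comm]
  have har : α *ᵥ rr = 0 := by
    have : g • (α *ᵥ rr) = 0 := by
      rw [← Matrix.mulVec_smul, show g • rr = β from funext fun v => (hrr v).symm]; exact hab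
    exact (smul_eq_zero.mp this).resolve_left hg.ne'
  have hMx : ∀ x, M *ᵥ x = -(α *ᵥ x) + (e ⬝ᵥ x) • e := fun x => by
    rw [hM, Matrix.add_mulVec, Matrix.neg_mulVec, Matrix.vecMulVec_mulVec]
    congr 1
    funext v; simp [mul_comm]
  have her : e ⬝ᵥ rr = 1 := by
    refine mul_left_cancel₀ hg.ne' ?_
    rw [mul_one, dotProduct, Finset.mul_sum]
    conv_rhs => rw [he]
    exact Finset.sum_congr rfl fun v _ => by rw [hrr v]; ring
  -- the determinant
  let D : Matrix V V ℚ := Matrix.diagonal fun v => (β v : ℚ)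
  let w : E → ℚ := fun t => (β (ends t).1 : ℚ) * β (ends t).2
  let f : V → ℚ := fun v => (β v : ℚ) * e v
  have hfsum : ∑ v, f v = (g : ℚ) := by rw [he]; simp [f]
  have hoff : ∀ v v', v ≠ v' →
      ∑ t, w t * (chi ends ℚ t v * chi ends ℚ t v') = -((β v : ℚ) * β v' * (α v v' : ℚ)) := by
    intro v v' hne
    rw [hsymm v v' hne, edgeMult, Finset.card_filter]
    push_cast
    rw [Finset.mul_sum, ← Finset.sum_neg_distrib]
    refine Finset.sum_congr rfl fun t _ => ?_
    rcases ht : ends t with ⟨a, b⟩
    simp only [w, chi, ht, Pi.sub_apply, Prod.mk.injEq]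
    by_cases hc : (a = v ∧ b = v') ∨ (a = v' ∧ b = v)
    · rw [if_pos hc]
      rcases hc with ⟨rfl, rfl⟩ | ⟨rfl, rfl⟩
      · simp [hne, Ne.symm hne]
      · simp [hne, Ne.symm hne, mul_comm]
    · rw [if_neg hc, mul_zero, neg_zero]
      refine mul_eq_zero_of_right _ ?_
      have hn1 : ¬ (v = a ∧ v' = b) := fun h => hc (Or.inl ⟨h.1.symm, h.2.symm⟩)
      have hn2 : ¬ (v = b ∧ v' = a) := fun h => hc (Or.inr ⟨h.2.symm, h.1.symm⟩)
      by_cases h1 : v = a
      · subst h1
        have h2 : v' ≠ v := Ne.symm hne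
        have h3 : v' ≠ b := fun h => hn1 ⟨rfl, h⟩
        simp [h2, h3]
      · by_cases h2 : v = b
        · subst h2
          have h3 : v' ≠ a := fun h => hn2 ⟨rfl, h⟩
          simp [h3, Ne.symm hne]
        · simp [h1, h2]
  have hzero : ∀ v, ∑ v', ∑ t, w t * (chi ends ℚ t v * chi ends ℚ t v') = 0 := fun v => by
    rw [Finset.sum_comm]
    simp [← Finset.mul_sum, sum_chi]
  have hlap : lap ends f w = D * M.map (Int.castRingHom ℚ) * D := by
    ext v v'
    rw [lap_apply, Matrix.mul_diagonal, Matrix.diagonal_mul, Matrix.map_apply, hM, Matrix.add_apply, Matrix.neg_apply,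
      Matrix.vecMulVec_apply]
    have hL : ∑ t, w t * (chi ends ℚ t v * chi ends ℚ t v') = -((β v : ℚ) * β v' * (α v v' : ℚ)) := by
      by_cases hne : v = v'
      · subst hne
        have h := hzero v
        rw [← Finset.sum_erase_add _ _ (Finset.mem_univ v),
          Finset.sum_congr rfl fun v' hv' => hoff v v' (Finset.ne_of_mem_erase hv').symm] at h
        have hd : (α v v : ℚ) * β v = -∑ u ∈ univ.erase v, (β u : ℚ) * (α v u : ℚ) := by
          rw [Finset.sum_congr rfl fun u hu => by rw [hsymm v u (Finset.ne_of_mem_erase hu).symm]]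
          exact_mod_cast LGChain.diag_mul hβ v
        have h2 : ∑ u ∈ univ.erase v, -((β v : ℚ) * β u * (α v u : ℚ)) = -(β v * ∑ u ∈ univ.erase v, (β u : ℚ) * (α v u : ℚ)) := by
          rw [Finset.mul_sum, ← Finset.sum_neg_distrib]; exact Finset.sum_congr rfl fun u _ => by ring
        rw [h2] at h
        linear_combination h + (β v : ℚ) * hd
      · exact hoff v v' hne
    rw [hL]
    simp only [f, eq_intCast, Int.cast_add, Int.cast_neg, Int.cast_mul]
    ring
  have hwpos : ∀ t, 0 < w t := fun t =>
    mul_pos (by exact_mod_cast (hβ _).1) (by exact_mod_cast (hβ _).1)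
  have hsum := det_lap ends f w
  rw [hfsum] at hsum
  have hne : (lap ends f w).det ≠ 0 := det_lap_ne_zero ends f w hwpos (by rw [hfsum]; exact_mod_cast hg.ne') hG
  have hpos : 0 < (lap ends f w).det := by
    refine lt_of_le_of_ne ?_ hne.symm
    rw [hsum]
    exact mul_nonneg (sq_nonneg _) (Finset.sum_nonneg fun T _ => Finset.prod_nonneg fun t _ => (hwpos t).le)
  have hdet : (lap ends f w).det = (∏ v, (β v : ℚ)) ^ 2 * (M.det : ℚ) := by
    rw [hlap, Matrix.det_mul, Matrix.det_mul, Matrix.det_diagonal, ← RingHom.mapMatrix_apply, ← RingHom.map_det,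
      eq_intCast]
    ring
  have hPpos : 0 < (∏ v, (β v : ℚ)) ^ 2 := pow_pos (Finset.prod_pos fun v _ => by exact_mod_cast (hβ v).1) 2
  have hMpos : 0 < M.det := by
    rw [hdet] at hpos
    exact_mod_cast (pos_of_mul_pos_right hpos hPpos.le)
  -- the index
  have hMinj : Function.Injective M.mulVecLin := by
    rw [← LinearMap.ker_eq_bot, LinearMap.ker_eq_bot']
    intro x hx
    by_contra hx0
    exact hMpos.ne' (Matrix.exists_mulVec_eq_zero_iff.mp ⟨x, hx0, hx⟩)
  have hindex : M.det.natAbs = Nat.card ((V → ℤ) ⧸ LinearMap.range M.mulVecLin) := by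
    rw [← Submodule.natAbs_det_equiv (LinearMap.range M.mulVecLin) (LinearEquiv.ofInjective _ hMinj), ← LinearMap.det_toLin']
    rfl
  have he_mem : e ∈ LinearMap.range M.mulVecLin :=
    ⟨rr, by rw [Matrix.mulVecLin_apply, hMx, har, neg_zero, zero_add, her, one_smul]⟩
  have hα_mem : ∀ x, α *ᵥ x ∈ LinearMap.range M.mulVecLin := fun x => by
    have : α *ᵥ x = -(M *ᵥ x) + (e ⬝ᵥ x) • e := by rw [hMx]; abel
    rw [this]
    exact add_mem (neg_mem ⟨x, rfl⟩) (Submodule.smul_mem _ _ he_mem)
  have hbe : betaHom β e = g := by rw [LGChain.betaHom_eq, he]; simp [mul_comm]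
  let φ : CompGrp ends β →ₗ[ℤ] (V → ℤ) ⧸ LinearMap.range M.mulVecLin :=
    Submodule.mapQ _ _ (LinearMap.ker (betaHom β)).subtype (by
      rintro y ⟨x, hx⟩
      show y.1 ∈ LinearMap.range M.mulVecLin
      rw [show y.1 = α *ᵥ x from hx.symm]
      exact hα_mem x)
  have hbij : Function.Bijective φ := by
    constructor
    · rw [← LinearMap.ker_eq_bot, LinearMap.ker_eq_bot']
      intro q hq
      obtain ⟨⟨y, hy⟩, rfl⟩ := Submodule.Quotient.mk_surjective _ q
      rw [Submodule.mapQ_apply, Submodule.Quotient.mk_eq_zero] at hq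
      obtain ⟨x, hx⟩ := hq
      rw [Matrix.mulVecLin_apply, hMx] at hx
      have h0 : (e ⬝ᵥ x) * g = 0 := by
        have := congrArg (betaHom β) hx
        rw [map_add, map_neg, map_smul, LGChain.betaHom_mulVec hβ, hbe] at this
        simpa [LinearMap.mem_ker.mp hy] using this
      rw [Submodule.Quotient.mk_eq_zero]
      refine ⟨-x, ?_⟩
      rw [Matrix.mulVecLin_apply, Matrix.mulVec_neg]
      rw [(mul_eq_zero.mp h0).resolve_right hg.ne', zero_smul, add_zero] at hx
      exact hx
    · intro q
      obtain ⟨y, rfl⟩ := Submodule.Quotient.mk_surjective _ q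
      have hdiv : g ∣ betaHom β y := by
        rw [LGChain.betaHom_eq]
        exact Finset.dvd_sum fun v _ => Dvd.dvd.mul_left (Finset.gcd_dvd (Finset.mem_univ v)) _
      obtain ⟨c, hc⟩ := hdiv
      refine ⟨Submodule.Quotient.mk ⟨y - c • e, ?_⟩, ?_⟩
      · rw [LinearMap.mem_ker, map_sub, map_smul, hbe, hc, smul_eq_mul, mul_comm, sub_self]
      · rw [Submodule.mapQ_apply, Submodule.Quotient.eq]
        show y - c • e - y ∈ _
        rw [sub_sub_cancel_left]
        exact neg_mem (Submodule.smul_mem _ _ he_mem)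
  rw [Nat.card_eq_of_bijective φ hbij, ← hindex, Nat.cast_natAbs, abs_of_pos hMpos]
  have hP : (∏ v, (β v : ℚ)) ^ 2 ≠ 0 := hPpos.ne'
  refine mul_left_cancel₀ hP ?_
  rw [← hdet, hsum]
  rw [mul_left_comm, Finset.mul_sum _ _ ((∏ v, (β v : ℚ)) ^ 2)]
  refine congrArg _ (Finset.sum_congr rfl fun T hT => ?_)
  rw [show ∏ t ∈ T, w t = _ from prod_weight ends (fun v => (β v : ℚ)) T, ← Finset.prod_pow, ← Finset.prod_mul_distrib]
  refine Finset.prod_congr rfl fun v _ => ?_
  have hv : (β v : ℚ) ≠ 0 := by exact_mod_cast (hβ v).1.ne'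
  rw [nbrCount_eq ends (Finset.mem_filter.mp hT).2, zpow_sub₀ hv, zpow_natCast, zpow_ofNat, mul_div_cancel₀]
  exact pow_ne_zero 2 hv

end Groth.Agent.MTree
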