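import Mathlib
import Groth.Prelude.Def_W4c1nerontoraddGraph
import Groth.Agent.MTree.Basic

/-!
# Potentials and fundamental circuits of spanning trees
-/

set_option autoImplicit false
universe u

open Finset LabGraph Matrix

namespace Groth.Agent.MTree

variable {V E : Type u} (ends : E → V × V)

/-- The difference of a vertex function along an edge. -/
def del (g : V → ℤ) (e : E) : ℤ := g (ends e).1 - g (ends e).2

theorem const_of_del {g : V → ℤ} {ι : Type u} (ι' : ι → E) (hconn : Connected fun i => ends (ι' i))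
    (h : ∀ i, del ends g (ι' i) = 0) (v w : V) : g v = g w := by
  induction hconn.2 v w with
  | refl => rfl
  | tail _ hadj ih =>
    obtain ⟨i, hi | hi⟩ := hadj
    · have := h i; rw [del, show ends (ι' i) = _ from hi] at this; rw [ih]; linarith
    · have := h i; rw [del, show ends (ι' i) = _ from hi] at this; rw [ih]; linarith

variable [DecidableEq V]

theorem endCount_eq (C : Finset E) (v : V) :
    (endCount ends C v : ℤ) =
      ∑ e ∈ C, del ends (Pi.single v 1) e + 2 * ∑ e ∈ C, (if (ends e).2 = v then 1 else 0) := by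
  rw [endCount, Nat.cast_sum, Finset.mul_sum, ← Finset.sum_add_distrib]
  refine Finset.sum_congr rfl fun e _ => ?_
  simp only [del, Pi.single_apply, Nat.cast_add, Nat.cast_ite, Nat.cast_one, Nat.cast_zero]
  split_ifs <;> ring

theorem even_endCount_iff (C : Finset E) (v : V) :
    Even (endCount ends C v) ↔ Even (∑ e ∈ C, del ends (Pi.single v 1) e) := by
  rw [← Int.even_coe_nat, endCount_eq, Int.even_add]
  simp

theorem endCount_ne_zero_iff (C : Finset E) (v : V) :
    endCount ends C v ≠ 0 ↔ ∃ e ∈ C, (ends e).1 = v ∨ (ends e).2 = v := by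
  simp [endCount, or_iff_not_imp_left]

theorem endCount_map_subtype {T : Finset E} (C : Finset T) (v : V) :
    endCount ends (C.map (Function.Embedding.subtype _)) v = endCount (fun e : T => ends e.1) C v := by
  simp [endCount]
  rfl

variable [Fintype V]

theorem del_expand (g : V → ℤ) (e : E) : del ends g e = ∑ v, g v * del ends (Pi.single v 1) e := by
  simp [del, mul_sub, Pi.single_apply, Finset.sum_sub_distrib]

theorem even_sum_del {C : Finset E} (hC : ∀ v, Even (endCount ends C v)) (g : V → ℤ) :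
    Even (∑ e ∈ C, del ends g e) := by
  rw [Finset.sum_congr rfl fun e _ => del_expand ends g e, Finset.sum_comm]
  refine even_iff_two_dvd.mpr (Finset.dvd_sum fun v _ => ?_)
  rw [← Finset.mul_sum]
  exact Dvd.dvd.mul_left (even_iff_two_dvd.mp ((even_endCount_iff ends C v).mp (hC v))) _

variable [Fintype E]

theorem boundary_eq (γ : E → ℤ) (v : V) :
    boundary ends γ v = -∑ e, γ e * del ends (Pi.single v 1) e := by
  rw [boundary, ← Finset.sum_neg_distrib]
  refine Finset.sum_congr rfl fun e _ => ?_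
  simp only [del, Pi.single_apply]
  split_ifs <;> ring

theorem orth_del {γ : E → ℤ} (hγ : ∀ v, boundary ends γ v = 0) (g : V → ℤ) :
    ∑ e, γ e * del ends g e = 0 := by
  rw [Finset.sum_congr rfl fun e _ => by rw [del_expand ends g e, Finset.mul_sum], Finset.sum_comm]
  refine Finset.sum_eq_zero fun v _ => ?_
  have h := hγ v
  rw [boundary_eq, neg_eq_zero] at h
  calc ∑ e, γ e * (g v * del ends (Pi.single v 1) e) = g v * ∑ e, γ e * del ends (Pi.single v 1) e := by
        rw [Finset.mul_sum]; exact Finset.sum_congr rfl fun e _ => by ring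
    _ = 0 := by rw [h, mul_zero]

variable [DecidableEq E]

section Tree

variable {T : Finset E} (hT : IsSpanningTree ends T)
include hT

theorem not_even_subset {C : Finset E} (hCT : C ⊆ T) (hC : C.Nonempty) : ∃ v, ¬ Even (endCount ends C v) := by
  by_contra hev
  push Not at hev
  obtain ⟨D, -, hD⟩ := exists_circuit_subset (fun e : T => ends e.1) (C.subtype (· ∈ T))
    (let ⟨x, hx⟩ := hC; ⟨⟨x, hCT hx⟩, Finset.mem_subtype.mpr hx⟩)
    (fun v => by rw [← endCount_map_subtype, Finset.subtype_map_of_mem fun x hx => hCT hx]; exact hev v)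
  exact hT.2 D hD

theorem exists_pot (r : V) (δ : E → ℤ) : ∃ g : V → ℤ, g r = 0 ∧ ∀ t ∈ T, del ends g t = δ t := by
  classical
  let e : V ≃ Option T := Fintype.equivOfCardEq (card_eq_of_tree ends r hT)
  have hu := isUnit_tau ends r e hT.1
  rw [tau, ← Matrix.isUnit_iff_isUnit_det, ← Matrix.mulVec_surjective_iff_isUnit] at hu
  obtain ⟨g, hg⟩ := hu fun v => (e v).elim 0 fun t => δ t.1
  refine ⟨g, ?_, fun t ht => ?_⟩
  · have := congrFun hg (e.symm none)
    simpa [Matrix.mulVec, dotProduct, treeMat, rows, Pi.single_apply] using this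
  · have := congrFun hg (e.symm (some ⟨t, ht⟩))
    simpa [Matrix.mulVec, dotProduct, treeMat, rows, chi, sub_mul, Pi.single_apply, Finset.sum_sub_distrib, del]
      using this

theorem eq_of_del {g g' : V → ℤ} (r : V) (hr : g r = g' r) (h : ∀ t ∈ T, del ends g t = del ends g' t) : g = g' := by
  funext v
  have := const_of_del ends (g := g - g') (fun t : T => t.1) hT.1 (fun t => by
    have := h t.1 t.2
    simp only [del, Pi.sub_apply] at *
    linarith) v r
  simp only [Pi.sub_apply] at this
  linarith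

/-- The cut function of a tree edge. -/
noncomputable def cutFn (t : E) : V → ℤ :=
  (exists_pot ends hT hT.1.1.some fun t' => if t' = t then 1 else 0).choose

/-- The coefficient of the tree edge `t` in the edge `e`. -/
noncomputable def coef (t e : E) : ℤ := del ends (cutFn ends hT t) e

theorem coef_tree (t t' : E) (ht' : t' ∈ T) : coef ends hT t t' = if t' = t then 1 else 0 :=
  (exists_pot ends hT hT.1.1.some fun t' => if t' = t then 1 else 0).choose_spec.2 t' ht'

theorem del_eq_sum (g : V → ℤ) (e : E) : del ends g e = ∑ t ∈ T, del ends g t * coef ends hT t e := by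
  have hr : ∀ t, cutFn ends hT t hT.1.1.some = 0 := fun t =>
    (exists_pot ends hT hT.1.1.some fun t' => if t' = t then 1 else 0).choose_spec.1
  have hdel : ∀ x, del ends (fun v => g hT.1.1.some + ∑ t ∈ T, del ends g t * cutFn ends hT t v) x =
      ∑ t ∈ T, del ends g t * coef ends hT t x := fun x => by
    simp [del, coef, Finset.sum_sub_distrib, mul_sub]
  have heq : g = fun v => g hT.1.1.some + ∑ t ∈ T, del ends g t * cutFn ends hT t v := by
    refine eq_of_del ends hT hT.1.1.some (by simp [hr]) fun t ht => ?_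
    rw [hdel, Finset.sum_eq_single t (fun b _ hb => by rw [coef_tree ends hT b t ht, if_neg (Ne.symm hb), mul_zero])
      (fun h => absurd ht h), coef_tree ends hT t t ht, if_pos rfl, mul_one]
  conv_lhs => rw [heq]
  exact hdel e

theorem coef_cases {t : E} (ht : t ∈ T) (e : E) :
    coef ends hT t e = 0 ∨ coef ends hT t e = 1 ∨ coef ends hT t e = -1 := by
  set h := cutFn ends hT t
  have hd : ∀ t' ∈ T, del ends h t' = if t' = t then 1 else 0 := coef_tree ends hT t
  let k : V → ℤ := fun v => if h (ends t).1 ≤ h v then 1 else 0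
  have hk : ∀ t' ∈ T, del ends k t' = del ends h t' := fun t' ht' => by
    rw [hd t' ht']
    split_ifs with htt
    · have := hd t ht
      rw [if_pos rfl, del] at this
      rw [htt]
      simp only [del, k]
      rw [if_pos le_rfl, if_neg (by omega)]
      rfl
    · have := hd t' ht'
      rw [if_neg htt, del] at this
      simp only [del, k]
      rw [show h (ends t').1 = h (ends t').2 by omega, sub_self]
  have hke : del ends k e = coef ends hT t e := by
    rw [coef, del_eq_sum ends hT k e, del_eq_sum ends hT h e]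
    exact Finset.sum_congr rfl fun t' ht' => by rw [hk t' ht']
  rw [← hke]
  simp only [del, k]
  split_ifs <;> omega

theorem coef_odd_iff {t : E} (ht : t ∈ T) (e : E) : Odd (coef ends hT t e) ↔ coef ends hT t e ≠ 0 := by
  rcases coef_cases ends hT ht e with h | h | h <;> rw [h] <;> decide

/-- Every edge outside a tree closes a circuit containing exactly the tree edges with nonzero coefficient. -/
theorem exists_fund_circuit {e : E} (he : e ∉ T) :
    ∃ C, IsCircuit ends C ∧ e ∈ C ∧ C ⊆ insert e T ∧ ∀ t ∈ T, (t ∈ C ↔ coef ends hT t e ≠ 0) := by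
  classical
  set C0 := insert e (T.filter fun t => coef ends hT t e ≠ 0) with hC0
  have hsub0 : C0 ⊆ insert e T := Finset.insert_subset_insert _ (Finset.filter_subset _ _)
  have heven : ∀ v, Even (endCount ends C0 v) := fun v => by
    rw [even_endCount_iff, hC0, Finset.sum_insert (fun h => he (Finset.mem_filter.mp h).1),
      del_eq_sum ends hT (Pi.single v 1) e,
      ← Finset.sum_filter_of_ne (p := fun t => coef ends hT t e ≠ 0) (fun t _ h => right_ne_zero_of_mul h),
      ← Finset.sum_add_distrib]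
    refine even_iff_two_dvd.mpr (Finset.dvd_sum fun t ht => even_iff_two_dvd.mp ?_)
    obtain ⟨htT, hne⟩ := Finset.mem_filter.mp ht
    rw [← mul_add_one]
    exact (((coef_odd_iff ends hT htT e).mpr hne).add_one).mul_left _
  obtain ⟨C, hsub, hC⟩ := exists_circuit_subset ends C0 ⟨e, Finset.mem_insert_self _ _⟩ heven
  have heC : e ∈ C := by
    by_contra h
    obtain ⟨v, hv⟩ := not_even_subset ends hT (C := C) (fun x hx => by
      rcases Finset.mem_insert.mp (hsub0 (hsub hx)) with rfl | h'
      · exact absurd hx h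
      · exact h') hC.1
    exact hv (hC.2.1 v)
  refine ⟨C, hC, heC, hsub.trans hsub0, fun t ht => ⟨fun htC => ?_, fun hne => ?_⟩⟩
  · rcases Finset.mem_insert.mp (hsub htC) with rfl | h
    · exact absurd ht he
    · exact (Finset.mem_filter.mp h).2
  · by_contra htC
    have h := even_sum_del ends hC.2.1 (cutFn ends hT t)
    rw [Finset.sum_eq_single e (fun b hb hne' => ?_) (fun h' => absurd heC h')] at h
    · exact Int.not_odd_iff_even.mpr h ((coef_odd_iff ends hT ht e).mpr hne)
    · show coef ends hT t b = 0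
      rw [coef_tree ends hT t b ((Finset.mem_insert.mp (hsub0 (hsub hb))).resolve_left hne'),
        if_neg (fun h' : b = t => htC (h' ▸ hb))]

/-- The fundamental cycle. -/
noncomputable def fundCycle (e : E) : E → ℤ := fun x =>
  (if x = e then 1 else 0) - (if x ∈ T then coef ends hT x e else 0)

theorem boundary_fundCycle (e : E) (v : V) : boundary ends (fundCycle ends hT e) v = 0 := by
  rw [boundary_eq, neg_eq_zero]
  simp only [fundCycle, sub_mul, ite_mul, one_mul, zero_mul, Finset.sum_sub_distrib, Finset.sum_ite_eq',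
    Finset.mem_univ, if_true, Finset.sum_ite_mem, Finset.univ_inter]
  rw [sub_eq_zero, del_eq_sum ends hT (Pi.single v 1) e]
  exact Finset.sum_congr rfl fun t _ => mul_comm _ _

end Tree

theorem exists_tree (hG : Connected ends) : ∃ T : Finset E, IsSpanningTree ends T := by
  classical
  haveI := hG.1
  have hne := det_lap_ne_zero ends (fun _ => (1 : ℚ)) (fun _ => 1) (fun _ => one_pos) (by simp) hG
  rw [det_lap] at hne
  obtain ⟨T, hT, -⟩ := Finset.exists_ne_zero_of_sum_ne_zero (right_ne_zero_of_mul hne)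
  exact ⟨T, (Finset.mem_filter.mp hT).2⟩

theorem exists_tree_superset (hG : Connected ends) {F : Finset E} (hF : ∀ C ⊆ F, ¬ IsCircuit ends C) :
    ∃ T : Finset E, IsSpanningTree ends T ∧ F ⊆ T := by
  classical
  obtain ⟨T0, hT0⟩ := exists_tree ends hG
  obtain ⟨T, hTmem, hmax⟩ := Finset.exists_max_image
    (univ.powerset.filter fun T : Finset E => IsSpanningTree ends T) (fun T => (T ∩ F).card)
    ⟨T0, Finset.mem_filter.mpr ⟨Finset.mem_powerset.mpr (Finset.subset_univ _), hT0⟩⟩
  have hT := (Finset.mem_filter.mp hTmem).2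
  refine ⟨T, hT, fun x hxF => ?_⟩
  by_contra hxT
  obtain ⟨C, hC, hxC, hsub, hiff⟩ := exists_fund_circuit ends hT hxT
  obtain ⟨t0, ht0C, ht0F⟩ := Finset.not_subset.mp fun h => hF C h hC
  have ht0T : t0 ∈ T := (Finset.mem_insert.mp (hsub ht0C)).resolve_left fun h => ht0F (h ▸ hxF)
  have hcoef := (hiff t0 ht0T).mp ht0C
  set T' := insert x (T.erase t0) with hT'
  have hcard : T'.card = T.card := by
    rw [hT', Finset.card_insert_of_notMem (fun h => hxT (Finset.mem_of_mem_erase h)), Finset.card_erase_of_mem ht0T]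
    exact Nat.sub_add_cancel (Finset.card_pos.mpr ⟨t0, ht0T⟩)
  obtain ⟨r⟩ := hG.1
  have hconn : Connected fun e : T' => ends e.1 := by
    set Adj' := LabGraph.Adj fun e : T' => ends e.1
    let k : V → ℤ := fun v => if Relation.ReflTransGen Adj' r v then 0 else 1
    have hk' : ∀ t ∈ T', del ends k t = 0 := fun t ht => by
      have hiff : Relation.ReflTransGen Adj' r (ends t).1 ↔ Relation.ReflTransGen Adj' r (ends t).2 :=
        ⟨fun hh => hh.tail ⟨⟨t, ht⟩, Or.inl rfl⟩, fun hh => hh.tail ⟨⟨t, ht⟩, Or.inr rfl⟩⟩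
      simp only [del, k, hiff, sub_self]
    have hx := del_eq_sum ends hT k x
    rw [hk' x (Finset.mem_insert_self _ _), Finset.sum_eq_single t0
      (fun b hb hne => by rw [hk' b (Finset.mem_insert_of_mem (Finset.mem_erase.mpr ⟨hne, hb⟩)), zero_mul])
      (fun h => absurd ht0T h)] at hx
    have h0 : del ends k t0 = 0 := (mul_eq_zero.mp hx.symm).resolve_right hcoef
    have hconst := const_of_del ends (g := k) (fun t : T => t.1) hT.1 (fun t => by
      by_cases h : t.1 = t0
      · rw [h, h0]
      · exact hk' _ (Finset.mem_insert_of_mem (Finset.mem_erase.mpr ⟨h, t.2⟩)))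
    have hreach : ∀ v, Relation.ReflTransGen Adj' r v := fun v => by
      have h := hconst r v
      simp only [k, if_pos Relation.ReflTransGen.refl] at h
      by_contra hn
      rw [if_neg hn] at h
      exact zero_ne_one h
    refine ⟨⟨r⟩, fun v w => Relation.ReflTransGen.trans ?_ (hreach w)⟩
    haveI : Std.Symm Adj' := ⟨fun a b ⟨t, ht⟩ => ⟨t, ht.symm⟩⟩
    exact Std.Symm.symm (r := Relation.ReflTransGen Adj') r v (hreach v)
  have hT'tree : IsSpanningTree ends T' := tree_of_card ends r (Fintype.equivOfCardEq (by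
    rw [card_eq_of_tree ends r hT]; simp [hcard])) hconn
  have := hmax T' (Finset.mem_filter.mpr ⟨Finset.mem_powerset.mpr (Finset.subset_univ _), hT'tree⟩)
  refine absurd this (not_le.mpr (Finset.card_lt_card ?_))
  refine Finset.ssubset_iff.mpr ⟨x, fun h => hxT (Finset.mem_inter.mp h).1, fun y hy => ?_⟩
  rcases Finset.mem_insert.mp hy with rfl | hy
  · exact Finset.mem_inter.mpr ⟨Finset.mem_insert_self _ _, hxF⟩
  · obtain ⟨h1, h2⟩ := Finset.mem_inter.mp hy
    exact Finset.mem_inter.mpr ⟨Finset.mem_insert_of_mem (Finset.mem_erase.mpr ⟨fun h => ht0F (h ▸ h2), h1⟩), h2⟩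

/-- A circuit minus one of its edges lies in a spanning tree. -/
theorem exists_tree_circuit (hG : Connected ends) {C : Finset E} (hC : IsCircuit ends C) {e : E} (he : e ∈ C) :
    ∃ (T : Finset E) (hT : IsSpanningTree ends T),
      C.erase e ⊆ T ∧ e ∉ T ∧ ∀ t ∈ T, t ∉ C → coef ends hT t e = 0 := by
  obtain ⟨T, hT, hsub⟩ := exists_tree_superset ends hG (F := C.erase e) fun D hD hDc => by
    obtain ⟨v, hv⟩ := hC.2.2 D (Finset.ssubset_of_subset_of_ssubset hD (Finset.erase_ssubset he)) hDc.1
    exact hv (hDc.2.1 v)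
  refine ⟨T, hT, hsub, fun heT => ?_, fun t ht htC => ?_⟩
  · obtain ⟨v, hv⟩ := not_even_subset ends hT (C := C) (fun x hx => by
      rcases eq_or_ne x e with rfl | hne
      · exact heT
      · exact hsub (Finset.mem_erase.mpr ⟨hne, hx⟩)) hC.1
    exact hv (hC.2.1 v)
  · have h := even_sum_del ends hC.2.1 (cutFn ends hT t)
    rw [Finset.sum_eq_single e (fun b hb hne' => ?_) (fun h' => absurd he h')] at h
    · by_contra hne
      exact Int.not_odd_iff_even.mpr h ((coef_odd_iff ends hT ht e).mpr hne)
    · show coef ends hT t b = 0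
      rw [coef_tree ends hT t b (hsub (Finset.mem_erase.mpr ⟨hne', hb⟩)), if_neg (fun h' : b = t => htC (h' ▸ hb))]

section Labels

omit [Fintype V] [Fintype E] [DecidableEq V] [DecidableEq E] in
/-- An ideal of `ℤ` containing `L > 0` and all its prime-to-`p` parts contains one. -/
theorem one_mem_of_parts {L : ℕ} (hL : 0 < L) (S : Ideal ℤ) (hLS : (L : ℤ) ∈ S)
    (h : ∀ p a m : ℕ, p.Prime → L = p ^ a * m → ¬ p ∣ m → (m : ℤ) ∈ S) : (1 : ℤ) ∈ S := by
  obtain ⟨d, hd⟩ := (IsPrincipalIdealRing.principal S).principal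
  have hmem : ∀ x, x ∈ S ↔ d ∣ x := fun x => by rw [hd]; exact Ideal.mem_span_singleton
  rw [hmem]
  by_contra hd1
  have hne : d.natAbs ≠ 1 := fun h1 => hd1 (Int.isUnit_iff_natAbs_eq.mpr h1 |>.dvd)
  obtain ⟨p, hp, hpd⟩ := Nat.exists_prime_and_dvd hne
  obtain ⟨a, m, hm, hLm⟩ := Nat.exists_eq_pow_mul_and_not_dvd hL.ne' p hp.ne_one
  exact hm (hpd.trans (Int.natAbs_dvd_natAbs.mpr ((hmem _).mp (h p a m hp hLm hm))))

omit [Fintype V] [Fintype E] [DecidableEq V] [DecidableEq E] in
theorem dvd_pow_mul {p a m l j : ℕ} (hp : p.Prime) (hl : l ∣ p ^ a * m) (hj : ¬ p ^ (j + 1) ∣ l) :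
    l ∣ p ^ j * m := by
  obtain ⟨x, y, hx, hy, rfl⟩ := Nat.dvd_mul.mp hl
  obtain ⟨i, -, rfl⟩ := (Nat.dvd_prime_pow hp).mp hx
  refine mul_dvd_mul (pow_dvd_pow p ?_) hy
  by_contra hij
  exact hj (Dvd.dvd.mul_right (pow_dvd_pow p (by omega)) y)

theorem exists_congr_pot (l : E → ℕ) (hl : ∀ e, 0 < l e) (hG : Connected ends)
    (hcop : IsCircuitCoprime ends l) (x : E → ℤ) : ∃ g : V → ℤ, ∀ e, (l e : ℤ) ∣ del ends g e - x e := by
  classical
  let S : Ideal ℤ :=
    { carrier := {k | ∃ g : V → ℤ, ∀ e, (l e : ℤ) ∣ del ends g e - k * x e}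
      zero_mem' := ⟨0, fun e => by simp [del]⟩
      add_mem' := fun {k k'} ⟨g, hg⟩ ⟨g', hg'⟩ => ⟨g + g', fun e => by
        refine (dvd_add (hg e) (hg' e)).trans (dvd_of_eq ?_)
        simp only [del, Pi.add_apply]
        ring⟩
      smul_mem' := fun c k ⟨g, hg⟩ => ⟨c • g, fun e => by
        refine ((hg e).mul_left c).trans (dvd_of_eq ?_)
        simp only [del, Pi.smul_apply, smul_eq_mul]
        ring⟩ }
  have hdvd : ∀ e, l e ∣ ∏ e, l e := fun e => Finset.dvd_prod_of_mem l (Finset.mem_univ e)
  have h1 : (1 : ℤ) ∈ S := by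
    refine one_mem_of_parts (L := ∏ e, l e) (Finset.prod_pos fun e _ => hl e) S ?_ ?_
    · refine ⟨0, fun e => ?_⟩
      have : (l e : ℤ) ∣ ((∏ e, l e : ℕ) : ℤ) := Int.natCast_dvd_natCast.mpr (hdvd e)
      simpa [del] using this.mul_right (x e)
    · intro p a m hp hLm hm
      obtain ⟨T, hT, hFT⟩ := exists_tree_superset ends hG (F := univ.filter fun e => p ∣ l e) fun C hC hCc =>
        hp.ne_one (Nat.dvd_one.mp ((hcop C hCc) ▸ Finset.dvd_gcd fun e he => (Finset.mem_filter.mp (hC he)).2))
      obtain ⟨g, -, hg⟩ := exists_pot ends hT hG.1.some x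
      refine ⟨(m : ℤ) • g, fun e => ?_⟩
      have heq : del ends ((m : ℤ) • g) e - m * x e = m * (del ends g e - x e) := by
        simp [del]; ring
      rw [heq]
      by_cases hpe : p ∣ l e
      · rw [hg e (hFT (Finset.mem_filter.mpr ⟨Finset.mem_univ e, hpe⟩)), sub_self, mul_zero]
        exact dvd_zero _
      · refine Dvd.dvd.mul_right (Int.natCast_dvd_natCast.mpr ?_) _
        simpa using dvd_pow_mul (j := 0) hp (hLm ▸ hdvd e) (by simpa using hpe)
  obtain ⟨g, hg⟩ := h1
  exact ⟨g, fun e => by simpa using hg e⟩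

theorem coprime_of_orth (l : E → ℕ) (hG : Connected ends)
    (h : ∀ x : E → ℤ, ∃ y : E → ℤ, ∀ γ : E → ℤ, (∀ v : V, boundary ends γ v = 0) →
      ∑ e : E, γ e * (x e - (l e : ℤ) * y e) = 0) : IsCircuitCoprime ends l := by
  classical
  intro C hC
  obtain ⟨e, he⟩ := hC.1
  obtain ⟨T, hT, -, heT, hzero⟩ := exists_tree_circuit ends hG hC he
  obtain ⟨y, hy⟩ := h (Pi.single e 1)
  have h0 := hy _ (boundary_fundCycle ends hT e)
  have hγe : fundCycle ends hT e e = 1 := by simp [fundCycle, heT]
  have hone : ∑ x, fundCycle ends hT e x * ((l x : ℤ) * y x) = 1 := by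
    simp only [mul_sub, Finset.sum_sub_distrib] at h0
    rw [Finset.sum_eq_single e (fun b _ hb => by simp [hb]) (by simp), hγe, Pi.single_eq_same, one_mul,
      sub_eq_zero] at h0
    exact h0.symm
  refine Nat.dvd_one.mp (Int.natCast_dvd_natCast.mp ?_)
  rw [Nat.cast_one, ← hone]
  refine Finset.dvd_sum fun x _ => ?_
  by_cases hx : x ∈ C
  · exact (Dvd.dvd.mul_right (Int.natCast_dvd_natCast.mpr (Finset.gcd_dvd hx)) _).mul_left _
  · have : fundCycle ends hT e x = 0 := by
      have hxe : x ≠ e := fun h => hx (h ▸ he)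
      simp only [fundCycle, if_neg hxe]
      split_ifs with hxT
      · rw [hzero x hxT hx, sub_zero]
      · rfl
    rw [this, zero_mul]
    exact dvd_zero _

theorem orth_of_congr_pot (l : E → ℕ) (x : E → ℤ) (h : ∃ g : V → ℤ, ∀ e, (l e : ℤ) ∣ del ends g e - x e) :
    ∃ y : E → ℤ, ∀ γ : E → ℤ, (∀ v : V, boundary ends γ v = 0) →
      ∑ e : E, γ e * (x e - (l e : ℤ) * y e) = 0 := by
  obtain ⟨g, hg⟩ := h
  choose z hz using hg
  refine ⟨fun e => -z e, fun γ hγ => ?_⟩
  rw [← orth_del ends hγ g]
  exact Finset.sum_congr rfl fun e _ => by linear_combination (-γ e) * hz e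

end Labels

section Blowup

variable (l : E → ℕ)

omit [DecidableEq E] [Fintype V] in
theorem mdeg_eq_boundary (φ : V → ℤ) (hφ : IsCartier ends l φ) (v : V) :
    mdeg ends l φ v = boundary ends (fun e => del ends φ e / (l e : ℤ)) v := by
  refine Finset.sum_congr rfl fun e _ => ?_
  simp only [del]
  rw [← neg_sub (φ (ends e).1) (φ (ends e).2), Int.neg_ediv_of_dvd (hφ e)]
  split_ifs <;> ring

omit [DecidableEq V] [DecidableEq E] [Fintype V] [Fintype E] in
theorem pathVert_eq_inr (e e' : E) (j : ℕ) (i : Fin (l e - 1)) :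
    pathVert ends l e' j = Sum.inr ⟨e, i⟩ ↔ e' = e ∧ j = i.val + 1 := by
  have := i.2
  unfold pathVert
  split_ifs with h0 h
  · simp [h0]
  · constructor
    · intro heq
      obtain ⟨rfl, h2⟩ := Sigma.mk.inj_iff.mp (Sum.inr.inj heq)
      have := congrArg Fin.val (eq_of_heq h2)
      simp only at this
      exact ⟨rfl, by omega⟩
    · rintro ⟨rfl, rfl⟩
      simp
  · constructor
    · simp
    · rintro ⟨rfl, rfl⟩; omega

theorem boundary_blEnds_inr (q : E → ℕ → ℤ) (e : E) (i : Fin (l e - 1)) :
    boundary (blEnds ends l) (fun p : BlEdge E l => q p.1 p.2.val) (Sum.inr ⟨e, i⟩) = q e i.val - q e (i.val + 1) := by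
  have := i.2
  rw [boundary, Fintype.sum_sigma, Finset.sum_eq_single e]
  · simp only [blEnds, pathVert_eq_inr, true_and, Nat.add_right_cancel_iff, Finset.sum_sub_distrib]
    rw [Finset.sum_eq_single (⟨i.val, by omega⟩ : Fin (l e)), Finset.sum_eq_single (⟨i.val + 1, by omega⟩ : Fin (l e))]
    · simp
    all_goals first
      | (intro k _ hk; rw [if_neg]; exact fun h => hk (Fin.ext h))
      | (intro h; exact absurd (Finset.mem_univ _) h)
  · intro e' _ hne
    exact Finset.sum_eq_zero fun k _ => by simp [blEnds, pathVert_eq_inr, hne]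
  · simp

theorem boundary_blEnds_inl (hl : ∀ e, 0 < l e) (q : E → ℕ → ℤ) (v : V) :
    boundary (blEnds ends l) (fun p : BlEdge E l => q p.1 p.2.val) (Sum.inl v) =
      ∑ e, ((if (ends e).2 = v then q e (l e - 1) else 0) - (if (ends e).1 = v then q e 0 else 0)) := by
  rw [boundary, Fintype.sum_sigma]
  refine Finset.sum_congr rfl fun e _ => ?_
  have h0 := hl e
  rw [Finset.sum_sub_distrib, Finset.sum_eq_single (⟨l e - 1, by omega⟩ : Fin (l e)),
    Finset.sum_eq_single (⟨0, h0⟩ : Fin (l e))]
  · congr 1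
    · have : pathVert ends l e (l e - 1 + 1) = Sum.inl (ends e).2 := by
        rw [pathVert, dif_neg (by omega), dif_neg (by omega)]
      simp [blEnds, this]
    · simp [blEnds, pathVert]
  all_goals first
    | (intro h; exact absurd (Finset.mem_univ _) h)
    | (intro k _ hk
       have := k.2
       have hne : k.val ≠ 0 := fun h => hk (Fin.ext h)
       simp [blEnds, pathVert, hne, this])
    | (intro k _ hk
       have := k.2
       have hne : k.val + 1 < l e := by
         have : k.val ≠ l e - 1 := fun h => hk (Fin.ext h)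
         omega
       simp [blEnds, pathVert, hne])

omit [DecidableEq V] [DecidableEq E] [Fintype V] [Fintype E] in
theorem pathVert_last (hl : ∀ e, 0 < l e) (e : E) : pathVert ends l e (l e) = Sum.inl (ends e).2 := by
  have := hl e
  rw [pathVert, dif_neg (by omega), dif_neg (by omega)]

/-- The difference along the `k`-th edge of the path of `e`. -/
def pathDel (ψ : BlVert V E l → ℤ) (e : E) (k : ℕ) : ℤ :=
  ψ (pathVert ends l e k) - ψ (pathVert ends l e (k + 1))

theorem mdeg_blEnds (ψ : BlVert V E l → ℤ) (w : BlVert V E l) :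
    mdeg (blEnds ends l) (fun _ => 1) ψ w =
      boundary (blEnds ends l) (fun p : BlEdge E l => pathDel ends l ψ p.1 p.2.val) w := by
  rw [mdeg_eq_boundary (blEnds ends l) (fun _ => 1) ψ (fun p => by simp) w]
  exact congrArg (fun q => boundary (blEnds ends l) q w) (funext fun p => by simp [del, pathDel, blEnds])

omit [DecidableEq V] [DecidableEq E] [Fintype V] [Fintype E] in
theorem sum_pathDel (hl : ∀ e, 0 < l e) (ψ : BlVert V E l → ℤ) (e : E) :
    ∑ k ∈ Finset.range (l e), pathDel ends l ψ e k = del ends (fun v => ψ (Sum.inl v)) e := by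
  unfold pathDel
  rw [Finset.sum_range_sub' (fun k => ψ (pathVert ends l e k)), pathVert_last ends l hl e]
  simp [del, pathVert]

end Blowup

end Groth.Agent.MTree
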